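import Groth.Agent.VersalMinLib.Fitting
import Groth.Agent.ArtFunLib.HR
import Groth.Agent.S12748

/-!
# Splitting a power series ring off a versal family
-/

set_option autoImplicit false
set_option linter.unusedSectionVars false

open CategoryTheory ArtFun ArtFun.Art IsLocalRing

namespace Groth.Agent.VersalMinLib

open Groth.Agent.ArtFunLib

universe u v

theorem mem_span_X {Λ : Type u} [CommRing Λ] {n : ℕ} (f : MvPowerSeries (Fin n) Λ)
    (hf : MvPowerSeries.constantCoeff f = 0) :
    f ∈ Ideal.span (Set.range (MvPowerSeries.X : Fin n → MvPowerSeries (Fin n) Λ)) := by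
  let P := MvPowerSeries (Fin n) Λ
  let e := (MvPowerSeries.toAdicCompletionAlgEquiv (Fin n) Λ).restrictScalars Λ
  have hJ := MvPolynomial.idealOfVars_fg (Fin n) Λ
  obtain ⟨p, hp⟩ := Ideal.Quotient.mk_surjective (AdicCompletion.eval (MvPolynomial.idealOfVars (Fin n) Λ) _ 1 (e f))
  have hmem : e f - algebraMap (MvPolynomial (Fin n) Λ) _ p ∈
      (MvPolynomial.idealOfVars (Fin n) Λ ^ 1 • ⊤ : Submodule (MvPolynomial (Fin n) Λ) _) := by
    rw [AdicCompletion.pow_smul_top_eq_ker_eval hJ, LinearMap.mem_ker, map_sub, sub_eq_zero, ← hp]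
    rfl
  rw [pow_one, Ideal.smul_top_eq_map, Submodule.restrictScalars_mem] at hmem
  have hXm : ∀ i, algebraMap (MvPolynomial (Fin n) Λ) P (MvPolynomial.X i) = MvPowerSeries.X i :=
    fun i => by simp [P, MvPowerSeries.algebraMap_apply']
  have hJI : (MvPolynomial.idealOfVars (Fin n) Λ).map (algebraMap (MvPolynomial (Fin n) Λ) P) =
      Ideal.span (Set.range MvPowerSeries.X) := by
    rw [MvPolynomial.idealOfVars, Ideal.map_span, ← Set.range_comp]
    exact congrArg (fun s => Ideal.span (Set.range s)) (funext hXm)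
  have h2 : f - algebraMap (MvPolynomial (Fin n) Λ) P p ∈ Ideal.span (Set.range MvPowerSeries.X) := by
    rw [← hJI]
    have := Ideal.mem_map_of_mem (MvPowerSeries.toAdicCompletionAlgEquiv (Fin n) Λ).symm.toAlgHom.toRingHom hmem
    rw [Ideal.map_map, AlgHom.toRingHom_eq_coe, AlgHom.comp_algebraMap] at this
    refine (congrArg (· ∈ _) ?_).mp this
    refine (map_sub (MvPowerSeries.toAdicCompletionAlgEquiv (Fin n) Λ).symm _ _).trans ?_
    congr 1
    · exact (MvPowerSeries.toAdicCompletionAlgEquiv (Fin n) Λ).symm_apply_apply f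
    · exact (MvPowerSeries.toAdicCompletionAlgEquiv (Fin n) Λ).symm.commutes p
  have h3 : p ∈ MvPolynomial.idealOfVars (Fin n) Λ := by
    have h5 : Ideal.span (Set.range MvPowerSeries.X) ≤ RingHom.ker (MvPowerSeries.constantCoeff (σ := Fin n) (R := Λ)) :=
      Ideal.span_le.mpr (Set.range_subset_iff.mpr fun i => MvPowerSeries.constantCoeff_X i)
    have h4 := h5 h2
    rw [RingHom.mem_ker, map_sub, hf, zero_sub, neg_eq_zero] at h4
    rw [← pow_one (MvPolynomial.idealOfVars (Fin n) Λ), MvPolynomial.mem_pow_idealOfVars_iff']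
    intro x hx
    rw [show x = 0 from (Finsupp.degree_eq_zero_iff x).mp (by omega)]
    simpa [P, MvPowerSeries.algebraMap_apply', ← MvPowerSeries.coeff_zero_eq_constantCoeff_apply] using h4
  rw [← sub_add_cancel f (algebraMap (MvPolynomial (Fin n) Λ) P p)]
  exact add_mem h2 (hJI ▸ Ideal.mem_map_of_mem _ h3)

/-- An ideal has minimal generators. -/
theorem exists_minimal_gens {R : Type u} [CommRing R] [IsLocalRing R] [IsNoetherianRing R] (I : Ideal R) :
    ∃ (r : ℕ) (x : Fin r → R), (∀ i, x i ∈ I) ∧ Ideal.span (Set.range x) ⊔ maximalIdeal R * I = I ∧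
      ∀ c : Fin r → R, (∑ i, c i * x i) ∈ maximalIdeal R * I → ∀ i, c i ∈ maximalIdeal R := by
  classical
  have hex : ∃ r, ∃ x : Fin r → R, (∀ i, x i ∈ I) ∧ Ideal.span (Set.range x) ⊔ maximalIdeal R * I = I := by
    obtain ⟨r, x, hx⟩ := Submodule.fg_iff_exists_fin_generating_family.1 (IsNoetherian.noetherian I)
    exact ⟨r, x, fun i => hx ▸ Ideal.subset_span ⟨i, rfl⟩, by
      rw [show Ideal.span (Set.range x) = I from hx]; exact sup_eq_left.2 Ideal.mul_le_right⟩
  obtain ⟨x, hxI, hspan⟩ := Nat.find_spec hex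
  refine ⟨_, x, hxI, hspan, fun c hc j => ?_⟩
  by_contra hj
  rw [mem_maximalIdeal, mem_nonunits_iff, not_not] at hj
  obtain ⟨m, hm⟩ : ∃ m, Nat.find hex = m + 1 := ⟨_, (Nat.succ_pred_eq_of_pos j.pos).symm⟩
  let σ : Fin (m + 1) ≃ Fin (Nat.find hex) := finCongr hm.symm
  refine Nat.find_min hex (show m < Nat.find hex by omega)
    ⟨fun i => x (σ ((σ.symm j).succAbove i)), fun i => hxI _, le_antisymm ?_ ?_⟩
  · exact sup_le (Ideal.span_le.2 (Set.range_subset_iff.2 fun i => hxI _)) Ideal.mul_le_right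
  · conv_lhs => rw [← hspan]
    refine sup_le (Ideal.span_le.2 (Set.range_subset_iff.2 fun i => ?_)) le_sup_right
    have key : ∀ i, i ≠ j → x i ∈ Ideal.span (Set.range fun i => x (σ ((σ.symm j).succAbove i))) := fun i hi => by
      obtain ⟨l, hl⟩ := Fin.exists_succAbove_eq (σ.symm.injective.ne hi)
      exact Ideal.subset_span ⟨l, by simp [hl]⟩
    by_cases hi : i = j
    · subst hi
      obtain ⟨v, hv⟩ := hj
      have h1 : c i * x i ∈ Ideal.span (Set.range fun l => x (σ ((σ.symm i).succAbove l))) ⊔ maximalIdeal R * I := by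
        rw [← Finset.sum_erase_add _ _ (Finset.mem_univ i)] at hc
        have h2 : ∑ l ∈ Finset.univ.erase i, c l * x l ∈
            Ideal.span (Set.range fun l => x (σ ((σ.symm i).succAbove l))) :=
          sum_mem fun l hl => Ideal.mul_mem_left _ _ (key l (Finset.ne_of_mem_erase hl))
        have := sub_mem (Ideal.mem_sup_right hc) (Ideal.mem_sup_left h2)
        rwa [add_sub_cancel_left] at this
      have := Ideal.mul_mem_left _ (↑v⁻¹ : R) h1
      rw [← mul_assoc, ← hv, Units.inv_mul, one_mul] at this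
      exact this
    · exact Ideal.mem_sup_left (key i hi)

variable {Λ : Type u} {k : Type u} [CommRing Λ] [Field k] [Algebra Λ k]
variable [IsNoetherianRing Λ] [Module.Finite Λ k] {F : Art Λ k ⥤ Type v}

/-- A versal family with a preserved idempotent `f ∘ π` is a power series extension of its image. -/
theorem exists_powerSeries (R R' : CRing Λ k) (ξ : Family R.carrier R.res F) (hξ : IsVersal ξ)
    (π : R.carrier →ₐ[Λ] R'.carrier) (hπ : R'.res.comp π = R.res) (f : R'.carrier →ₐ[Λ] R.carrier)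
    (hf : R.res.comp f = R'.res) (hπf : ∀ a, π (f a) = a) (hpres : Preserves ξ (f.comp π)) :
    ∃ (n : ℕ) (e : R.carrier ≃ₐ[Λ] MvPowerSeries (Fin n) R'.carrier),
      ∀ a, e (f a) = algebraMap R'.carrier (MvPowerSeries (Fin n) R'.carrier) a := by
  classical
  letI algR : Algebra R'.carrier R.carrier := f.toRingHom.toAlgebra
  haveI : IsScalarTower Λ R'.carrier R.carrier := IsScalarTower.of_algebraMap_eq fun l => (f.commutes l).symm
  let ρ : R.carrier →ₐ[R'.carrier] R'.carrier :=
    { π.toRingHom with commutes' := fun a => hπf a }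
  have hρ : ∀ z, ρ z = π z := fun z => rfl
  obtain ⟨r, x, hxI, hspan, hli⟩ := exists_minimal_gens (RingHom.ker ρ)
  have hdec : ∀ z, z - f (π z) ∈ RingHom.ker ρ := fun z => by
    rw [RingHom.mem_ker, map_sub, sub_eq_zero]
    exact (hπf (π z)).symm
  have hker : RingHom.ker ρ ≤ maximalIdeal R.carrier := le_maximalIdeal (RingHom.ker_ne_top ρ)
  haveI := R.isAdicComplete
  haveI := R'.isAdicComplete
  obtain ⟨φ, hφ⟩ := ps_exists_lift (Λ := R'.carrier) (maximalIdeal R.carrier) x fun i => hker (hxI i)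
  letI : Algebra R'.carrier k := R'.res.toRingHom.toAlgebra
  haveI : IsScalarTower Λ R'.carrier k := IsScalarTower.of_algebraMap_eq fun a => (R'.res.commutes a).symm
  obtain ⟨res, hres, hresX, hcS⟩ := exists_psCRing (Λ := R'.carrier) (k := k) R'.res_surjective r
  let S : CRing Λ k :=
    { carrier := MvPowerSeries (Fin r) R'.carrier, res := res.restrictScalars Λ, res_surjective := hres,
      isAdicComplete := hcS }
  let ι : R'.carrier →ₐ[Λ] S.carrier := IsScalarTower.toAlgHom Λ R'.carrier (MvPowerSeries (Fin r) R'.carrier)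
  have hι : S.res.comp ι = R'.res := AlgHom.ext fun a => res.commutes a
  let φΛ : S.carrier →ₐ[Λ] R.carrier := φ.restrictScalars Λ
  have hφres : R.res.comp φΛ = S.res := by
    haveI : IsAdicComplete (⊥ : Ideal k) k := {}
    let l : MvPowerSeries (Fin r) R'.carrier →ₐ[R'.carrier] k :=
      { (R.res.toRingHom.comp φ.toRingHom) with
        commutes' := fun a => by
          change R.res (φ (algebraMap _ _ a)) = _
          rw [φ.commutes]
          exact DFunLike.congr_fun hf a }
    have h0 : ∀ i, R.res (φ (MvPowerSeries.X i)) = 0 := fun i => by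
      rw [hφ, ← CRing.mem_maximalIdeal_iff]
      exact hker (hxI i)
    have : l = res := ps_ext (⊥ : Ideal k) (fun i => by
        change R.res (φ (MvPowerSeries.X i)) ∈ (⊥ : Ideal k)
        rw [h0]; exact zero_mem _) fun i => (h0 i).trans (hresX i).symm
    exact AlgHom.ext fun z => DFunLike.congr_fun this z
  have hX : ∀ i, (MvPowerSeries.X i : S.carrier) ∈ maximalIdeal S.carrier := fun i =>
    (CRing.mem_maximalIdeal_iff S _).2 (hresX i)
  have hι_mem : ∀ {a : R'.carrier}, a ∈ maximalIdeal R'.carrier → ι a ∈ maximalIdeal S.carrier := fun {a} ha =>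
    map_maximal_le hι (Ideal.mem_map_of_mem _ ha)
  have hlin : ∀ s : S.carrier, ∃ (a : R'.carrier) (c : Fin r → R'.carrier),
      s - (ι a + ∑ i, ι (c i) * MvPowerSeries.X i) ∈ maximalIdeal S.carrier ^ 2 := fun s => by
    have h1 : s - ι (MvPowerSeries.constantCoeff s) ∈ Ideal.span (Set.range (MvPowerSeries.X (R := R'.carrier) (σ := Fin r))) :=
      mem_span_X _ (by
        rw [map_sub]
        exact sub_eq_zero.2 (MvPowerSeries.constantCoeff_C _).symm)
    obtain ⟨d, hd⟩ := (Ideal.mem_span_range_iff_exists_fun).1 h1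
    refine ⟨MvPowerSeries.constantCoeff s, fun i => MvPowerSeries.constantCoeff (d i), ?_⟩
    rw [← sub_sub, ← hd, ← Finset.sum_sub_distrib]
    refine sum_mem fun i _ => ?_
    rw [← sub_mul, pow_two]
    refine Ideal.mul_mem_mul ((CRing.mem_maximalIdeal_iff S _).2 ?_) (hX i)
    have h2 := mem_span_X (d i - ι (MvPowerSeries.constantCoeff (d i))) (by
      rw [map_sub]; exact sub_eq_zero.2 (MvPowerSeries.constantCoeff_C _).symm)
    exact (CRing.mem_maximalIdeal_iff S _).1 (Ideal.span_le.2 (Set.range_subset_iff.2 hX) h2)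
  have hmI : ∀ w ∈ maximalIdeal R.carrier ^ 2, w - f (π w) ∈ maximalIdeal R.carrier * RingHom.ker ρ := fun w hw => by
    rw [pow_two] at hw
    refine Submodule.mul_induction_on hw (fun a ha b hb => ?_) fun a b ha hb => ?_
    · have h1 : f (π b) ∈ maximalIdeal R.carrier :=
        map_maximal_le hf (Ideal.mem_map_of_mem _ (map_maximal_le hπ (Ideal.mem_map_of_mem _ hb)))
      have h2 := add_mem (Ideal.mul_mem_mul ha (hdec b)) (Ideal.mul_mem_mul h1 (hdec a))
      rw [map_mul, map_mul]
      convert! h2 using 1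
      ring
    · rw [map_add, map_add, add_sub_add_comm]
      exact add_mem ha hb
  have hφι : ∀ a, φΛ (ι a) = f a := fun a => φ.commutes a
  have hφX : ∀ i, φΛ (MvPowerSeries.X i) = x i := hφ
  have hinj1 : ∀ s : S.carrier, φΛ s ∈ maximalIdeal R.carrier ^ 2 → s ∈ maximalIdeal S.carrier ^ 2 := fun s hs => by
    obtain ⟨a, c, hac⟩ := hlin s
    have h1 : φΛ (s - (ι a + ∑ i, ι (c i) * MvPowerSeries.X i)) ∈ maximalIdeal R.carrier ^ 2 :=
      ((Ideal.map_pow φΛ.toRingHom (maximalIdeal S.carrier) 2).le.trans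
        (Ideal.pow_right_mono (map_maximal_le hφres) 2)) (Ideal.mem_map_of_mem _ hac)
    have h2 : f a + ∑ i, f (c i) * x i ∈ maximalIdeal R.carrier ^ 2 := by
      have := sub_mem hs h1
      rw [map_sub φΛ, sub_sub_cancel, map_add φΛ, map_sum] at this
      simpa [map_mul, hφι, hφX] using this
    have hπ0 : ∀ i, π (x i) = 0 := hxI
    have ha : a ∈ maximalIdeal R'.carrier ^ 2 := by
      have := ((Ideal.map_pow π.toRingHom (maximalIdeal R.carrier) 2).le.trans
        (Ideal.pow_right_mono (map_maximal_le hπ) 2)) (Ideal.mem_map_of_mem _ h2)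
      simpa [map_sum, hπ0, hπf] using this
    have h3 : ∑ i, f (c i) * x i ∈ maximalIdeal R.carrier * RingHom.ker ρ := by
      have := hmI _ h2
      simpa [map_sum, hπ0, hπf, add_sub_cancel_left] using this
    have hc : ∀ i, c i ∈ maximalIdeal R'.carrier := fun i => by
      rw [CRing.mem_maximalIdeal_iff, ← res_comp_apply hf, ← CRing.mem_maximalIdeal_iff]
      exact hli _ h3 i
    have h4 : ι a + ∑ i, ι (c i) * MvPowerSeries.X i ∈ maximalIdeal S.carrier ^ 2 := by
      refine add_mem ?_ (sum_mem fun i _ => ?_)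
      · exact ((Ideal.map_pow ι.toRingHom (maximalIdeal R'.carrier) 2).le.trans
          (Ideal.pow_right_mono (map_maximal_le hι) 2)) (Ideal.mem_map_of_mem _ ha)
      · rw [pow_two]; exact Ideal.mul_mem_mul (hι_mem (hc i)) (hX i)
    have := add_mem hac h4
    rwa [sub_add_cancel] at this
  have hsurj : Function.Surjective φΛ := by
    refine surjective_of_surjective_sq φΛ hφres fun w => ?_
    obtain ⟨z, rfl⟩ := truncHom_surjective 1 w
    have h1 := hdec z
    rw [← hspan] at h1
    obtain ⟨y, hy, w, hw, hyw⟩ := Submodule.mem_sup.1 h1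
    obtain ⟨c, hc⟩ := Ideal.mem_span_range_iff_exists_fun.1 hy
    refine ⟨ι (π z) + ∑ i, ι (π (c i)) * MvPowerSeries.X i, sub_eq_zero.1 ?_⟩
    rw [← map_sub, truncHom_eq_zero_iff, map_add, map_sum]
    have h2 : f (π z) + ∑ i, f (π (c i)) * x i - z = (∑ i, (f (π (c i)) - c i) * x i) - w := by
      simp only [sub_mul, Finset.sum_sub_distrib, hc]
      linear_combination hyw
    simp only [map_mul, hφι, hφX]
    rw [h2, pow_two]
    refine sub_mem (sum_mem fun i _ => Ideal.mul_mem_mul ?_ (hker (hxI i))) (Ideal.mul_mono_right hker hw)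
    rw [← neg_sub]
    exact neg_mem (hker (hdec _))
  obtain ⟨hfp, hpξ⟩ := hpres
  have hbij := S12748.result R' R hf ρ r x hxI hspan hli φ hφ ⟨1, fun n hn => by
    obtain ⟨n, rfl⟩ := Nat.exists_eq_add_of_le hn
    rw [add_comm]
    rcases n with _ | n
    · obtain ⟨g, hg⟩ : ∃ g : R.carrier →ₐ[Λ] (S.trunc 0), ∀ s, g (φΛ s) = (S.truncHom 0).1 s := by
        haveI := trunc_zero_isIso S
        have hb := bijective_of_isIso (toBase (S.trunc 0))
        let e := AlgEquiv.ofBijective (toBase (S.trunc 0)).toAlgHom hb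
        refine ⟨e.symm.toAlgHom.comp R.res, fun s => hb.1 ?_⟩
        refine (e.apply_symm_apply _).trans ((DFunLike.congr_fun hφres s).trans ?_)
        exact (res_homSet (S.truncHom 0) s).symm
      exact ⟨g, hg⟩
    let φn : S.trunc (n + 1) ⟶ R.trunc (n + 1) := CRing.truncMapOfHom φΛ hφres (n + 1)
    have hφn : ∀ s, φn ((S.truncHom (n + 1)).1 s) = (R.truncHom (n + 1)).1 (φΛ s) := fun s => rfl
    have hφns : Function.Surjective φn := fun w => by
      obtain ⟨z, rfl⟩ := truncHom_surjective (n + 1) w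
      obtain ⟨s, rfl⟩ := hsurj z
      exact ⟨_, hφn s⟩
    let χ : HomSet R'.carrier R'.res (S.trunc (n + 1)) := homPre ι hι (S.truncHom (n + 1))
    let y : F.obj (S.trunc (n + 1)) := ξ.app _ (homPre π hπ χ)
    obtain ⟨g, hg, -⟩ := hξ φn hφns (R.truncHom (n + 1)) y (by
      rw [← ξ.natural]
      conv_rhs => rw [← hpξ]
      exact congrArg (ξ.app _) (HomSet.ext' fun z => congrArg (R.truncHom (n + 1)).1 (hφι (π z))))
    have hgφ : ∀ z, φn (g.1 z) = (R.truncHom (n + 1)).1 z := fun z =>
      congrArg (fun h : HomSet R.carrier R.res (R.trunc (n + 1)) => h.1 z) hg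
    let gφ : HomSet S.carrier S.res (S.trunc (n + 1)) := homPre φΛ hφres g
    have hN : CRing.mpow S (n + 1) ≤ RingHom.ker gφ.1 := fun a ha => by
      have h1 := apply_mem_pow gφ (n := n + 2) ha
      have h2 : maximalIdeal (S.trunc (n + 1)) ^ (n + 2) = ⊥ := by
        refine eq_bot_iff.2 fun b hb => ?_
        have : maximalIdeal (S.trunc (n + 1)) ≤ (maximalIdeal S.carrier).map (S.truncHom (n + 1)).1 := fun b hb => by
          obtain ⟨a, rfl⟩ := truncHom_surjective (n + 1) b
          refine Ideal.mem_map_of_mem _ ((CRing.mem_maximalIdeal_iff S a).2 ?_)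
          rw [← res_homSet (S.truncHom (n + 1)) a]
          exact (Art.mem_maximalIdeal_iff _ _).1 hb
        have h3 := Ideal.pow_right_mono this (n + 2) hb
        rw [← Ideal.map_pow] at h3
        obtain ⟨a, ha, rfl⟩ := (Ideal.mem_map_iff_of_surjective _ (truncHom_surjective (n + 1))).1 h3
        exact (truncHom_eq_zero_iff (n + 1) a).2 ha
      rw [h2] at h1
      exact h1
    let γ := truncFactor gφ hN
    have hγ : ∀ s, γ ((S.truncHom (n + 1)).1 s) = g.1 (φΛ s) := fun s => rfl
    have hgs : Function.Surjective gφ.1 := by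
      refine surjective_of_surjective_sq (R := artCRing (S.trunc (n + 1))) (R' := S) gφ.1 gφ.2 fun w => ?_
      obtain ⟨b, rfl⟩ := truncHom_surjective (R := artCRing (S.trunc (n + 1))) 1 w
      obtain ⟨s, rfl⟩ := truncHom_surjective (R := S) (n + 1) b
      refine ⟨s, sub_eq_zero.1 ((map_sub _ _ _).symm.trans ((truncHom_eq_zero_iff 1 _).2 ?_))⟩
      obtain ⟨d, hd⟩ := truncHom_surjective (R := S) (n + 1) (gφ.1 s - (S.truncHom (n + 1)).1 s)
      change gφ.1 s - (S.truncHom (n + 1)).1 s ∈ maximalIdeal (S.trunc (n + 1)) ^ 2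
      rw [← hd]
      refine apply_mem_pow (S.truncHom (n + 1)) (hinj1 d ?_)
      refine Ideal.pow_le_pow_right (show 2 ≤ n + 1 + 1 by omega) ((truncHom_eq_zero_iff (n + 1) _).1 ?_)
      rw [← hφn, hd]
      change φn.toAlgHom _ = 0
      rw [map_sub]
      exact sub_eq_zero.2 ((hgφ (φΛ s)).trans (hφn s).symm)
    have hγb : Function.Bijective γ := bijective_of_surjective_endo γ.toAlgHom.toRingHom fun b => by
      obtain ⟨s, hs⟩ := hgs b
      exact ⟨_, (hγ s).trans hs⟩
    let e := AlgEquiv.ofBijective γ.toAlgHom hγb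
    exact ⟨e.symm.toAlgHom.comp g.1, fun s => hγb.1 ((e.apply_symm_apply _).trans (hγ s).symm)⟩⟩
  refine ⟨r, (AlgEquiv.ofBijective φΛ hbij).symm, fun a => ?_⟩
  rw [AlgEquiv.symm_apply_eq]
  exact (hφι a).symm

end Groth.Agent.VersalMinLib
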