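import Groth.Agent.ArtFunLib.Points
import Groth.Agent.ArtFunLib.PS
import Groth.Prelude.Def_W4sfdMinVersal

/-!
# Fitting projections of endomorphisms of coefficient rings
-/

set_option autoImplicit false
set_option linter.unusedSectionVars false

open CategoryTheory ArtFun ArtFun.Art IsLocalRing

namespace Groth.Agent.VersalMinLib

open Groth.Agent.ArtFunLib

universe u v

variable {Λ : Type u} {k : Type u} [CommRing Λ] [Field k] [Algebra Λ k]
variable [IsNoetherianRing Λ] [Module.Finite Λ k]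

def itE {A : Art Λ k} (e : A ⟶ A) : ℕ → (A ⟶ A)
  | 0 => 𝟙 A
  | n + 1 => itE e n ≫ e

lemma itE_apply {A : Art Λ k} (e : A ⟶ A) : ∀ (n : ℕ) (x : A), itE e n x = (fun a => e a)^[n] x
  | 0, x => rfl
  | n + 1, x => by
    change e (itE e n x) = _
    rw [itE_apply e n x, Function.iterate_succ_apply']

lemma itE_add {A : Art Λ k} (e : A ⟶ A) (m n : ℕ) (x : A) : itE e (m + n) x = itE e m (itE e n x) := by
  rw [itE_apply, itE_apply, itE_apply, Function.iterate_add_apply]

lemma map_itE {F : Art Λ k ⥤ Type v} {A : Art Λ k} (e : A ⟶ A) (x : F.obj A) (h : F.map e x = x) :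
    ∀ n, F.map (itE e n) x = x
  | 0 => map_id_apply A x
  | n + 1 => by
    rw [show itE e (n + 1) = itE e n ≫ e from rfl, ← map_map, map_itE e x h n, h]

/-- A level past which the iterated images and kernels of `e` are constant. -/
lemma exists_stable {A : Art Λ k} (e : A ⟶ A) :
    ∃ N, 1 ≤ N ∧ (∀ n, N ≤ n → ∀ x, itE e n x = 0 → itE e N x = 0) ∧
      ∀ n, N ≤ n → ∀ x, ∃ y, itE e n y = itE e N x := by
  have := isArtinian_art A
  have hmono : Monotone fun n => RingHom.ker (itE e n).toAlgHom := monotone_nat_of_le_succ fun n x hx => by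
    rw [RingHom.mem_ker] at hx ⊢
    change e (itE e n x) = 0
    rw [show itE e n x = 0 from hx]
    exact map_zero e.toAlgHom
  have hanti : Antitone fun n => LinearMap.range (itE e n).toAlgHom.toLinearMap := antitone_nat_of_succ_le fun n => by
    rintro _ ⟨x, rfl⟩
    refine ⟨e x, ?_⟩
    change itE e n (e x) = itE e (n + 1) x
    rw [itE_add e n 1 x]
    rfl
  obtain ⟨M₁, h₁⟩ := monotone_stabilizes_iff_noetherian.mpr (inferInstance : IsNoetherian A A) ⟨_, hmono⟩
  obtain ⟨M₂, h₂⟩ := IsArtinian.monotone_stabilizes (R := Λ) (M := A) ⟨_, hanti⟩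
  refine ⟨max M₁ M₂ + 1, by omega, fun n hn x hx => ?_, fun n hn x => ?_⟩
  · have a := h₁ n (by omega)
    have b := h₁ (max M₁ M₂ + 1) (by omega)
    exact (SetLike.ext_iff.1 (b.symm.trans a) x).2 hx
  · have a := h₂ n (by omega)
    have b := h₂ (max M₁ M₂ + 1) (by omega)
    have c : LinearMap.range (itE e n).toAlgHom.toLinearMap =
        LinearMap.range (itE e (max M₁ M₂ + 1)).toAlgHom.toLinearMap := a.symm.trans b
    exact (SetLike.ext_iff.1 c (itE e (max M₁ M₂ + 1) x)).2 ⟨x, rfl⟩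

/-- The Fitting projection of an endomorphism of an object of `Art`. -/
theorem exists_fitting {A : Art Λ k} (e : A ⟶ A) :
    ∃ (p : A ⟶ A) (N : ℕ), 1 ≤ N ∧ (∀ x, p x ∈ Set.range (itE e N)) ∧ (∀ x, itE e N (p x) = itE e N x) ∧
      (∀ n, N ≤ n → ∀ x, itE e n x = 0 → itE e N x = 0) ∧ (∀ n, N ≤ n → ∀ x, ∃ y, itE e n y = itE e N x) := by
  obtain ⟨N, hN1, hker, hran⟩ := exists_stable e
  have hex : ∀ x, ∃ y, itE e N (itE e N y) = itE e N x := fun x => by
    obtain ⟨y, hy⟩ := hran (N + N) (by omega) x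
    exact ⟨y, (itE_add e N N y).symm.trans hy⟩
  choose y hy using hex
  have huniq : ∀ a b : A, a ∈ (itE e N).toAlgHom.range → b ∈ (itE e N).toAlgHom.range →
      itE e N a = itE e N b → a = b := by
    rintro _ _ ⟨a, rfl⟩ ⟨b, rfl⟩ h
    have h0 : itE e (N + N) (a - b) = 0 := by
      rw [itE_add]
      change (itE e N).toAlgHom ((itE e N).toAlgHom (a - b)) = 0
      rw [map_sub, map_sub]
      exact sub_eq_zero.2 h
    have h1 := hker (N + N) (by omega) _ h0
    change (itE e N).toAlgHom (a - b) = 0 at h1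
    rw [map_sub, sub_eq_zero] at h1
    exact h1
  let P : A → A := fun x => itE e N (y x)
  have hP : ∀ x, P x ∈ (itE e N).toAlgHom.range := fun x => ⟨y x, rfl⟩
  have hPe : ∀ x, (itE e N).toAlgHom (P x) = (itE e N).toAlgHom x := hy
  let p : A →ₐ[Λ] A :=
    { toFun := P
      map_one' := huniq _ _ (hP 1) (one_mem _) (hPe 1)
      map_mul' := fun a b => huniq _ _ (hP _) (mul_mem (hP a) (hP b))
        ((hPe (a * b)).trans (by rw [map_mul, ← hPe a, ← hPe b, ← map_mul]))
      map_zero' := huniq _ _ (hP 0) (zero_mem _) (hPe 0)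
      map_add' := fun a b => huniq _ _ (hP _) (add_mem (hP a) (hP b))
        ((hPe (a + b)).trans (by rw [map_add, ← hPe a, ← hPe b, ← map_add]))
      commutes' := fun l => huniq _ _ (hP _) (Subalgebra.algebraMap_mem _ l) (hPe _) }
  refine ⟨⟨p, AlgHom.ext fun x => ?_⟩, N, hN1, fun x => ⟨y x, rfl⟩, hy, hker, hran⟩
  change A.res (P x) = A.res x
  rw [← res_app (itE e N) (P x), ← res_app (itE e N) x]
  exact congrArg A.res (hy x)

/-- Two elements of the eventual image with a common iterate agree. -/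
lemma eq_of_itE_eq {A : Art Λ k} (e : A ⟶ A) {N : ℕ}
    (hker : ∀ n, N ≤ n → ∀ x, itE e n x = 0 → itE e N x = 0) {a b : A}
    (ha : a ∈ Set.range (itE e N)) (hb : b ∈ Set.range (itE e N)) (M : ℕ) (h : itE e M a = itE e M b) : a = b := by
  obtain ⟨a, rfl⟩ := ha
  obtain ⟨b, rfl⟩ := hb
  have h0 : itE e (M + N) (a - b) = 0 := by
    rw [itE_add]
    change (itE e M).toAlgHom ((itE e N).toAlgHom (a - b)) = 0
    rw [map_sub, map_sub]
    exact sub_eq_zero.2 h
  have h1 := hker (M + N) (by omega) _ h0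
  change (itE e N).toAlgHom (a - b) = 0 at h1
  rw [map_sub, sub_eq_zero] at h1
  exact h1

variable {F : Art Λ k ⥤ Type v} {R : CRing Λ k}

/-- An endomorphism of `R` preserving the family. -/
def Preserves (ξ : Family R.carrier R.res F) (e : R.carrier →ₐ[Λ] R.carrier) : Prop :=
  ∃ he : R.res.comp e = R.res, ξ.along e he = ξ

theorem exists_projection (ξ : Family R.carrier R.res F) (e : R.carrier →ₐ[Λ] R.carrier) (he : Preserves ξ e) :
    ∃ q : R.carrier →ₐ[Λ] R.carrier, Preserves ξ q ∧ (∀ r, q (q r) = q r) ∧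
      (∀ a b, e a = e b → q a = q b) ∧
      (∀ n r, ∃ r', (R.truncHom n).1 (q r) = (R.truncHom n).1 (e r')) := by
  obtain ⟨he, hξ⟩ := he
  let E : ∀ n, R.trunc n ⟶ R.trunc n := fun n => CRing.truncMapOfHom e he n
  choose p N hN1 hPr hPe hker hran using fun n => exists_fitting (E n)
  have hEt : ∀ n r, E n ((R.truncHom n).1 r) = (R.truncHom n).1 (e r) := fun n r => rfl
  have hit : ∀ n m x, R.truncMap n (itE (E (n + 1)) m x) = itE (E n) m (R.truncMap n x) := by
    intro n m
    induction m with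
    | zero => intro x; rfl
    | succ m ih =>
      intro x
      change (E (n + 1) ≫ R.truncMap n) (itE (E (n + 1)) m x) = E n (itE (E n) m (R.truncMap n x))
      rw [CRing.truncMapOfHom_truncMap, ← ih x]
      rfl
  have hmono : ∀ n m x, N n ≤ m → ∃ y, itE (E n) (N n) y = itE (E n) m x := fun n m x hm => by
    refine ⟨itE (E n) (m - N n) x, ?_⟩
    rw [← itE_add, Nat.add_sub_of_le hm]
  have hbig : ∀ n m x, N n ≤ m → itE (E n) m (p n x) = itE (E n) m x := fun n m x hm => by
    obtain ⟨d, rfl⟩ := Nat.exists_eq_add_of_le hm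
    rw [add_comm, itE_add, itE_add, hPe]
  have hcompat : ∀ n x, R.truncMap n (p (n + 1) x) = p n (R.truncMap n x) := fun n x => by
    obtain ⟨a, ha⟩ := hPr (n + 1) x
    obtain ⟨b, hb⟩ := hran (n + 1) (N (n + 1) + N n) (Nat.le_add_right _ _) a
    refine eq_of_itE_eq (E n) (hker n) ?_ (hPr n _) (N (n + 1) + N n) ?_
    · rw [← ha, ← hb, hit]
      exact hmono n _ _ (Nat.le_add_left _ _)
    · rw [← hit, hbig (n + 1) _ x (Nat.le_add_right _ _), hbig n _ _ (Nat.le_add_left _ _), hit]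
  obtain ⟨q, hq, hqn⟩ := exists_lift_trunc (fun n => HomSet.map (p n) (R.truncHom n)) fun n =>
    HomSet.ext' fun s => hcompat n ((R.truncHom (n + 1)).1 s)
  have hqn' : ∀ n r, (R.truncHom n).1 (q r) = p n ((R.truncHom n).1 r) := hqn
  have hpfix : ∀ n x, p n x = x ↔ x ∈ Set.range (itE (E n) (N n)) := fun n x =>
    ⟨fun h => h ▸ hPr n x, fun h => eq_of_itE_eq (E n) (hker n) (hPr n x) h (N n) (hPe n x)⟩
  refine ⟨q, ⟨hq, family_ext fun n => ?_⟩, fun r => eq_of_forall_truncHom fun n => ?_, fun a b hab => ?_, fun n r => ?_⟩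
  · have h1 : homPre q hq (R.truncHom n) = HomSet.map (p n) (R.truncHom n) := HomSet.ext' (hqn n)
    rw [along_app, h1, ξ.natural]
    have hx : F.map (E n) (ξ.app _ (R.truncHom n)) = ξ.app _ (R.truncHom n) := by
      rw [← ξ.natural]
      conv_rhs => rw [← hξ]
      rfl
    have hI := map_itE (E n) _ hx (N n)
    have hcomp : itE (E n) (N n) ≫ p n = itE (E n) (N n) := by
      apply Art.hom_ext
      exact AlgHom.ext fun x => (hpfix n _).2 ⟨x, rfl⟩
    conv_lhs => rw [← hI, map_map, hcomp, hI]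
  · rw [hqn', hqn', (hpfix n _).2 (hPr n _)]
  · refine eq_of_forall_truncHom fun n => ?_
    rw [hqn', hqn']
    refine eq_of_itE_eq (E n) (hker n) (hPr n _) (hPr n _) (N n) ?_
    rw [hPe, hPe]
    obtain ⟨d, hd⟩ := Nat.exists_eq_add_of_le (hN1 n)
    rw [hd, add_comm, itE_add, itE_add]
    exact congrArg (itE (E n) d) (congrArg (R.truncHom n).1 hab)
  · rw [hqn']
    obtain ⟨y, hy⟩ := hPr n ((R.truncHom n).1 r)
    obtain ⟨d, hd⟩ := Nat.exists_eq_add_of_le (hN1 n)
    obtain ⟨r', hr'⟩ := truncHom_surjective n (itE (E n) d y)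
    refine ⟨r', ?_⟩
    rw [← hy, hd, itE_add, ← hr']
    rfl

end Groth.Agent.VersalMinLib
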